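/-
Injective resolutions of short exact sequences (horseshoe) and morphisms between them.
-/
import Groth.Prelude.Def_RDerDelta
import Mathlib

set_option autoImplicit false
set_option linter.style.haveILetI false

universe v u v' u'

open CategoryTheory CategoryTheory.Limits

namespace Groth.Agent.RDerLib

variable {C : Type u} [Category.{v} C] [Abelian C]

/-- The row in degree `n` of a resolution of a short complex. -/
noncomputable abbrev row {S : ShortComplex C} (T : RDer.SESRes S) (n : ℕ) : ShortComplex C :=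
  ShortComplex.mk (T.f.f n) (T.g.f n)
    (by rw [← HomologicalComplex.comp_f, T.zero, HomologicalComplex.zero_f])

/-- The row in each degree is split. -/
noncomputable def rowSplitting {S : ShortComplex C} (T : RDer.SESRes S) (n : ℕ) :
    (row T n).Splitting :=
  T.splitting n

theorem row_shortExact {S : ShortComplex C} (T : RDer.SESRes S) (n : ℕ) : (row T n).ShortExact :=
  (rowSplitting T n).shortExact

/-- The augmentation into the degree zero row. -/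
@[simps]
noncomputable def aug {S : ShortComplex C} (T : RDer.SESRes S) : S ⟶ row T 0 where
  τ₁ := T.I₁.ι.f 0
  τ₂ := T.I₂.ι.f 0
  τ₃ := T.I₃.ι.f 0
  comm₁₂ := by
    have := HomologicalComplex.congr_hom T.ι_f 0
    simpa using this
  comm₂₃ := by
    have := HomologicalComplex.congr_hom T.ι_g 0
    simpa using this

/-- The differential between rows. -/
@[simps]
noncomputable def dRow {S : ShortComplex C} (T : RDer.SESRes S) (n : ℕ) :
    row T n ⟶ row T (n + 1) where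
  τ₁ := T.I₁.cocomplex.d n (n + 1)
  τ₂ := T.I₂.cocomplex.d n (n + 1)
  τ₃ := T.I₃.cocomplex.d n (n + 1)
  comm₁₂ := (T.f.comm n (n + 1)).symm
  comm₂₃ := (T.g.comm n (n + 1)).symm

theorem aug_comp_dRow {S : ShortComplex C} (T : RDer.SESRes S) : aug T ≫ dRow T 0 = 0 := by
  ext
  · exact T.I₁.ι_f_zero_comp_complex_d
  · exact T.I₂.ι_f_zero_comp_complex_d
  · exact T.I₃.ι_f_zero_comp_complex_d

theorem dRow_comp_dRow {S : ShortComplex C} (T : RDer.SESRes S) (n : ℕ) :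
    dRow T n ≫ dRow T (n + 1) = 0 := by
  ext
  · exact T.I₁.cocomplex.d_comp_d _ _ _
  · exact T.I₂.cocomplex.d_comp_d _ _ _
  · exact T.I₃.cocomplex.d_comp_d _ _ _

/-- A short complex admitting an injective resolution is short exact. -/
theorem shortExact_of_sesRes {S : ShortComplex C} (T : RDer.SESRes S) : S.ShortExact := by
  have hr : ∀ n, (row T n).ShortExact := row_shortExact T
  haveI hf0 : Mono (row T 0).f := (hr 0).mono_f
  haveI hf1 : Mono (row T 1).f := (hr 1).mono_f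
  haveI hf2 : Mono (row T 2).f := (hr 2).mono_f
  have hι₁ : Mono (aug T).τ₁ := inferInstanceAs (Mono (T.I₁.ι.f 0))
  have hι₂ : Mono (aug T).τ₂ := inferInstanceAs (Mono (T.I₂.ι.f 0))
  have hι₃ : Mono (aug T).τ₃ := inferInstanceAs (Mono (T.I₃.ι.f 0))
  have d01 : (aug T).τ₁ ≫ (row T 0).f = S.f ≫ (aug T).τ₂ := (aug T).comm₁₂
  have g01 : (aug T).τ₂ ≫ (row T 0).g = S.g ≫ (aug T).τ₃ := (aug T).comm₂₃
  have f12 := (dRow T 0).comm₁₂
  have g12 := (dRow T 0).comm₂₃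
  have f23 := (dRow T 1).comm₁₂
  have hm : Mono S.f := by
    have : Mono (S.f ≫ (aug T).τ₂) := by rw [← d01]; exact mono_comp _ _
    exact mono_of_mono S.f (aug T).τ₂
  have hex : S.Exact := by
    rw [ShortComplex.exact_iff_exact_up_to_refinements]
    intro A a ha
    have h1 : (a ≫ (aug T).τ₂) ≫ (row T 0).g = 0 := by
      rw [Category.assoc, g01, reassoc_of% ha, zero_comp]
    obtain ⟨w, hw⟩ : ∃ w : A ⟶ (row T 0).X₁, w ≫ (row T 0).f = a ≫ (aug T).τ₂ :=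
      ⟨(hr 0).exact.lift _ h1, (hr 0).exact.lift_f _ h1⟩
    have h2 : w ≫ (dRow T 0).τ₁ = 0 := by
      rw [← cancel_mono (row T 1).f, Category.assoc, f12, reassoc_of% hw, zero_comp,
        ← ShortComplex.comp_τ₂, aug_comp_dRow, ShortComplex.zero_τ₂, comp_zero]
    obtain ⟨a₁, ha₁⟩ : ∃ a₁ : A ⟶ S.X₁, a₁ ≫ (aug T).τ₁ = w :=
      ⟨_, (KernelFork.IsLimit.lift' T.I₁.isLimitKernelFork w h2).2⟩
    refine ⟨A, 𝟙 A, inferInstance, a₁, ?_⟩
    rw [← cancel_mono (aug T).τ₂, Category.id_comp, Category.assoc, ← d01, reassoc_of% ha₁, hw]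
  have he : Epi S.g := by
    rw [epi_iff_surjective_up_to_refinements]
    intro A a
    haveI := (hr 0).epi_g
    obtain ⟨A₁, π₁, hπ₁, z, hz⟩ := surjective_up_to_refinements_of_epi (row T 0).g (a ≫ (aug T).τ₃)
    have h1 : (z ≫ (dRow T 0).τ₂) ≫ (row T 1).g = 0 := by
      rw [Category.assoc, g12, ← reassoc_of% hz, ← ShortComplex.comp_τ₃, aug_comp_dRow,
        ShortComplex.zero_τ₃, comp_zero, comp_zero]
    obtain ⟨w, hw⟩ : ∃ w : A₁ ⟶ (row T 1).X₁, w ≫ (row T 1).f = z ≫ (dRow T 0).τ₂ :=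
      ⟨(hr 1).exact.lift _ h1, (hr 1).exact.lift_f _ h1⟩
    have h2 : w ≫ (dRow T 1).τ₁ = 0 := by
      rw [← cancel_mono (row T 2).f, Category.assoc, f23, reassoc_of% hw, zero_comp,
        ← ShortComplex.comp_τ₂, dRow_comp_dRow, ShortComplex.zero_τ₂, comp_zero]
    obtain ⟨A₂, π₂, hπ₂, v, hv⟩ := (T.I₁.exact_succ 0).exact_up_to_refinements w h2
    have hv' : π₂ ≫ w = v ≫ (dRow T 0).τ₁ := hv
    have h3 : (π₂ ≫ z - v ≫ (row T 0).f) ≫ (dRow T 0).τ₂ = 0 := by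
      rw [Preadditive.sub_comp, Category.assoc, Category.assoc, ← hw, ← f12, reassoc_of% hv',
        sub_self]
    obtain ⟨x, hx⟩ : ∃ x : A₂ ⟶ S.X₂, x ≫ (aug T).τ₂ = π₂ ≫ z - v ≫ (row T 0).f :=
      ⟨_, (KernelFork.IsLimit.lift' T.I₂.isLimitKernelFork _ h3).2⟩
    refine ⟨A₂, π₂ ≫ π₁, epi_comp _ _, x, ?_⟩
    rw [← cancel_mono (aug T).τ₃, Category.assoc, Category.assoc, Category.assoc, ← g01,
      reassoc_of% hx, Preadditive.sub_comp, Category.assoc, Category.assoc, ← hz, (row T 0).zero,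
      comp_zero, sub_zero]
  exact { exact := hex, mono_f := hm, epi_g := he }

/-- One step in the construction of a morphism between middle complexes. -/
theorem step {P A B : ShortComplex C} (hP : P.Exact) [Epi P.g] (σA : A.Splitting) (σB : B.Splitting)
    (p : P ⟶ A) (a : A.X₁ ⟶ B.X₁) (c : A.X₃ ⟶ B.X₃) (q : P.X₂ ⟶ B.X₂)
    (h₁ : P.f ≫ q = p.τ₁ ≫ a ≫ B.f) (h₃ : q ≫ B.g = P.g ≫ p.τ₃ ≫ c)
    (hdesc : ∀ (u : P.X₃ ⟶ B.X₁) (b₀ : A.X₂ ⟶ B.X₂), P.g ≫ u ≫ B.f = q - p.τ₂ ≫ b₀ →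
      ∃ h : A.X₃ ⟶ B.X₁, p.τ₃ ≫ h = u) :
    ∃ b : A.X₂ ⟶ B.X₂, A.f ≫ b = a ≫ B.f ∧ b ≫ B.g = A.g ≫ c ∧ p.τ₂ ≫ b = q := by
  set b₀ : A.X₂ ⟶ B.X₂ := σA.r ≫ a ≫ B.f + A.g ≫ c ≫ σB.s with hb₀
  have hf₀ : A.f ≫ b₀ = a ≫ B.f := by
    rw [hb₀, Preadditive.comp_add, σA.f_r_assoc, A.zero_assoc, zero_comp, add_zero]
  have hg₀ : b₀ ≫ B.g = A.g ≫ c := by
    rw [hb₀, Preadditive.add_comp, Category.assoc, Category.assoc, B.zero, comp_zero, comp_zero,
      zero_add, Category.assoc, Category.assoc, σB.s_g, Category.comp_id]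
  haveI : Mono B.f := σB.shortExact.mono_f
  have e₁ : (q - p.τ₂ ≫ b₀) ≫ B.g = 0 := by
    rw [Preadditive.sub_comp, h₃, Category.assoc, hg₀, p.comm₂₃_assoc, sub_self]
  obtain ⟨e, he⟩ : ∃ e : P.X₂ ⟶ B.X₁, e ≫ B.f = q - p.τ₂ ≫ b₀ :=
    ⟨σB.shortExact.exact.lift _ e₁, σB.shortExact.exact.lift_f _ e₁⟩
  have e₂ : P.f ≫ e = 0 := by
    rw [← cancel_mono B.f, Category.assoc, he, Preadditive.comp_sub, h₁, ← p.comm₁₂_assoc, hf₀,
      sub_self, zero_comp]
  obtain ⟨u, hu⟩ : ∃ u : P.X₃ ⟶ B.X₁, P.g ≫ u = e := ⟨hP.desc e e₂, hP.g_desc e e₂⟩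
  obtain ⟨h, hh⟩ := hdesc u b₀ (by rw [reassoc_of% hu, he])
  refine ⟨b₀ + A.g ≫ h ≫ B.f, ?_, ?_, ?_⟩
  · rw [Preadditive.comp_add, hf₀, A.zero_assoc, zero_comp, add_zero]
  · rw [Preadditive.add_comp, hg₀, Category.assoc, Category.assoc, B.zero, comp_zero, comp_zero,
      add_zero]
  · rw [Preadditive.comp_add, p.comm₂₃_assoc, reassoc_of% hh, reassoc_of% hu, he, add_sub_cancel]

/-- A morphism of short complexes extends to their injective resolutions, with prescribed maps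
on the outer terms. -/
theorem exists_middle {S S' : ShortComplex C} (T : RDer.SESRes S) (T' : RDer.SESRes S')
    (φ : S ⟶ S') (a : T.I₁.cocomplex ⟶ T'.I₁.cocomplex) (ha : T.I₁.ι.f 0 ≫ a.f 0 = φ.τ₁ ≫ T'.I₁.ι.f 0)
    (c : T.I₃.cocomplex ⟶ T'.I₃.cocomplex) (hc : T.I₃.ι.f 0 ≫ c.f 0 = φ.τ₃ ≫ T'.I₃.ι.f 0) :
    ∃ ψ : T.cx ⟶ T'.cx, ψ.τ₁ = a ∧ ψ.τ₃ = c := by
  have hS := shortExact_of_sesRes T
  haveI := hS.epi_g
  have hr : ∀ n, (row T n).ShortExact := row_shortExact T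
  haveI hepi : ∀ n, Epi (row T n).g := fun n => (hr n).epi_g
  haveI hmono : ∀ n, Mono (row T' n).f := fun n => (row_shortExact T' n).mono_f
  let G : ∀ k, ((row T k).X₂ ⟶ (row T' k).X₂) → Prop := fun k b =>
    (row T k).f ≫ b = a.f k ≫ (row T' k).f ∧ b ≫ (row T' k).g = (row T k).g ≫ c.f k ∧
      ∀ (u : (row T k).X₃ ⟶ (row T' (k + 1)).X₁) (b₀ : (row T (k + 1)).X₂ ⟶ (row T' (k + 1)).X₂),
        (row T k).g ≫ u ≫ (row T' (k + 1)).f =
          b ≫ (dRow T' k).τ₂ - (dRow T k).τ₂ ≫ b₀ →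
        ∃ h : (row T (k + 1)).X₃ ⟶ (row T' (k + 1)).X₁, (dRow T k).τ₃ ≫ h = u
  have base : ∃ b, G 0 b ∧ (aug T).τ₂ ≫ b = φ.τ₂ ≫ (aug T').τ₂ := by
    obtain ⟨b, hb1, hb2, hb3⟩ := step hS.exact (rowSplitting T 0) (rowSplitting T' 0) (aug T) (a.f 0) (c.f 0)
      (φ.τ₂ ≫ (aug T').τ₂)
      (by
        rw [← φ.comm₁₂_assoc, ← (aug T').comm₁₂]
        rw [← Category.assoc, ← Category.assoc]
        exact congrArg (· ≫ (row T' 0).f) ha.symm)
      (by rw [Category.assoc, (aug T').comm₂₃, φ.comm₂₃_assoc]; exact congrArg (S.g ≫ ·) hc.symm)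
      (fun u b₀ _ =>
        haveI : Mono (aug T).τ₃ := inferInstanceAs (Mono (T.I₃.ι.f 0))
        ⟨Injective.factorThru u (aug T).τ₃, Injective.comp_factorThru _ _⟩)
    refine ⟨b, ⟨hb1, hb2, fun u b₀ hu => ?_⟩, hb3⟩
    have hu0 : (aug T).τ₃ ≫ u = 0 := by
      rw [← cancel_epi S.g, ← cancel_mono (row T' 1).f, ← reassoc_of% (aug T).comm₂₃,
        Category.assoc, Category.assoc, hu, Preadditive.comp_sub, reassoc_of% hb3,
        ← ShortComplex.comp_τ₂, aug_comp_dRow, ShortComplex.zero_τ₂, comp_zero,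
        ← ShortComplex.comp_τ₂_assoc, aug_comp_dRow, ShortComplex.zero_τ₂, zero_comp, sub_zero,
        comp_zero, zero_comp]
    exact ⟨T.I₃.exact₀.descToInjective u hu0, T.I₃.exact₀.comp_descToInjective u hu0⟩
  have succ : ∀ k b, G k b → ∃ b', G (k + 1) b' ∧ (dRow T k).τ₂ ≫ b' = b ≫ (dRow T' k).τ₂ := by
    rintro k b ⟨hb1, hb2, hb3⟩
    obtain ⟨b', hb1', hb2', hb3'⟩ := step (hr k).exact (rowSplitting T (k + 1)) (rowSplitting T' (k + 1))
      (dRow T k) (a.f (k + 1)) (c.f (k + 1)) (b ≫ (dRow T' k).τ₂)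
      (by rw [reassoc_of% hb1, ← (dRow T' k).comm₁₂]; exact (reassoc_of% (a.comm k (k + 1))) _)
      (by rw [Category.assoc, (dRow T' k).comm₂₃, reassoc_of% hb2]
          exact congrArg ((row T k).g ≫ ·) (c.comm k (k + 1)))
      hb3
    refine ⟨b', ⟨hb1', hb2', fun u b₀ hu => ?_⟩, hb3'⟩
    have hu0 : (dRow T k).τ₃ ≫ u = 0 := by
      rw [← cancel_epi (row T k).g, ← cancel_mono (row T' (k + 1 + 1)).f,
        ← reassoc_of% (dRow T k).comm₂₃, Category.assoc, Category.assoc, hu, Preadditive.comp_sub,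
        reassoc_of% hb3', ← ShortComplex.comp_τ₂, dRow_comp_dRow, ShortComplex.zero_τ₂, comp_zero,
        ← ShortComplex.comp_τ₂_assoc, dRow_comp_dRow, ShortComplex.zero_τ₂, zero_comp, sub_zero,
        comp_zero, zero_comp]
    exact ⟨(T.I₃.exact_succ k).descToInjective u hu0,
      (T.I₃.exact_succ k).comp_descToInjective u hu0⟩
  choose nx hnx using succ
  let b : ∀ k, {b : (row T k).X₂ ⟶ (row T' k).X₂ // G k b} := fun k =>
    Nat.rec ⟨base.choose, base.choose_spec.1⟩ (fun n p => ⟨nx n p.1 p.2, (hnx n p.1 p.2).1⟩) k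
  let β : T.I₂.cocomplex ⟶ T'.I₂.cocomplex :=
    { f := fun k => (b k).1
      comm' := fun i j hij => by
        obtain rfl : i + 1 = j := hij
        exact ((hnx i (b i).1 (b i).2).2).symm }
  exact ⟨ShortComplex.homMk a β c (HomologicalComplex.hom_ext _ _ fun k => (b k).2.1.symm)
    (HomologicalComplex.hom_ext _ _ fun k => (b k).2.2.1), rfl, rfl⟩

end Groth.Agent.RDerLib
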