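/-
The horseshoe lemma: existence of injective resolutions of short exact sequences.
-/
import Groth.Agent.RDerLib.SESRes

set_option autoImplicit false
set_option linter.style.haveILetI false

universe v u

open CategoryTheory CategoryTheory.Limits

namespace Groth.Agent.RDerLib

variable {C : Type u} [Category.{v} C] [Abelian C]

/-- The augmentation of an injective resolution, with source the resolved object. -/
noncomputable def ι₀ {X : C} (I : InjectiveResolution X) : X ⟶ I.cocomplex.X 0 := I.ι.f 0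

instance {X : C} (I : InjectiveResolution X) : Mono (ι₀ I) := inferInstanceAs (Mono (I.ι.f 0))

@[reassoc (attr := simp)]
theorem ι₀_d {X : C} (I : InjectiveResolution X) : ι₀ I ≫ I.cocomplex.d 0 1 = 0 :=
  I.ι_f_zero_comp_complex_d

theorem exists_lift_ι₀ {X A : C} (I : InjectiveResolution X) (z : A ⟶ I.cocomplex.X 0)
    (hz : z ≫ I.cocomplex.d 0 1 = 0) : ∃ x : A ⟶ X, x ≫ ι₀ I = z :=
  ⟨_, (KernelFork.IsLimit.lift' I.isLimitKernelFork z hz).2⟩

theorem exact_ι₀ {X : C} (I : InjectiveResolution X) :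
    (ShortComplex.mk (ι₀ I) (I.cocomplex.d 0 1) (ι₀_d I)).Exact :=
  I.exact₀

/-- Twisting maps for the horseshoe. -/
theorem exists_twist {X₁ X₃ : C} (I₁ : InjectiveResolution X₁) (I₃ : InjectiveResolution X₃)
    (θ : X₃ ⟶ I₁.cocomplex.X 1) (hθ : θ ≫ I₁.cocomplex.d 1 2 = 0) :
    ∃ ψ : ∀ n, I₃.cocomplex.X n ⟶ I₁.cocomplex.X (n + 1),
      ι₀ I₃ ≫ ψ 0 = θ ∧
      ∀ n, ψ n ≫ I₁.cocomplex.d (n + 1) (n + 1 + 1) + I₃.cocomplex.d n (n + 1) ≫ ψ (n + 1) = 0 := by
  obtain ⟨p, hp⟩ : ∃ p : I₃.cocomplex.X 0 ⟶ I₁.cocomplex.X 1, ι₀ I₃ ≫ p = θ :=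
    ⟨Injective.factorThru θ (ι₀ I₃), Injective.comp_factorThru _ _⟩
  let P : ∀ n, (I₃.cocomplex.X n ⟶ I₁.cocomplex.X (n + 1)) → Prop := fun n q =>
    ∃ r : I₃.cocomplex.X (n + 1) ⟶ I₁.cocomplex.X (n + 1 + 1),
      q ≫ I₁.cocomplex.d (n + 1) (n + 1 + 1) + I₃.cocomplex.d n (n + 1) ≫ r = 0
  have h0 : P 0 p := by
    have : ι₀ I₃ ≫ (-(p ≫ I₁.cocomplex.d 1 2)) = 0 := by
      rw [Preadditive.comp_neg, reassoc_of% hp, hθ, neg_zero]
    exact ⟨(exact_ι₀ I₃).descToInjective _ this, by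
      erw [(exact_ι₀ I₃).comp_descToInjective _ this]; exact add_neg_cancel _⟩
  have hs : ∀ n q, P n q → ∃ r, (q ≫ I₁.cocomplex.d (n + 1) (n + 1 + 1) +
      I₃.cocomplex.d n (n + 1) ≫ r = 0) ∧ P (n + 1) r := by
    rintro n q ⟨r, hr⟩
    have h : I₃.cocomplex.d n (n + 1) ≫ (-(r ≫ I₁.cocomplex.d (n + 1 + 1) (n + 1 + 1 + 1))) = 0 := by
      rw [Preadditive.comp_neg, ← Category.assoc, eq_neg_of_add_eq_zero_right hr,
        Preadditive.neg_comp, Category.assoc, HomologicalComplex.d_comp_d, comp_zero, neg_zero,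
        neg_zero]
    exact ⟨r, hr, (I₃.exact_succ n).descToInjective _ h, by
      erw [(I₃.exact_succ n).comp_descToInjective _ h]; exact add_neg_cancel _⟩
  choose nx hnx using hs
  let ψ : ∀ n, {q : I₃.cocomplex.X n ⟶ I₁.cocomplex.X (n + 1) // P n q} := fun n =>
    Nat.rec ⟨p, h0⟩ (fun k q => ⟨nx k q.1 q.2, (hnx k q.1 q.2).2⟩) n
  exact ⟨fun n => (ψ n).1, hp, fun n => (hnx n (ψ n).1 (ψ n).2).1⟩

/-- The horseshoe lemma for injective resolutions. -/
theorem exists_sesRes {S : ShortComplex C} (hS : S.ShortExact) (I₁ : InjectiveResolution S.X₁)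
    (I₃ : InjectiveResolution S.X₃) : Nonempty (RDer.SESRes S) := by
  haveI := hS.mono_f
  haveI := hS.epi_g
  haveI hi₁ : Injective (I₁.cocomplex.X 0) := inferInstance
  obtain ⟨ε, hε⟩ : ∃ ε : S.X₂ ⟶ I₁.cocomplex.X 0, S.f ≫ ε = ι₀ I₁ :=
    ⟨Injective.factorThru (ι₀ I₁) S.f, Injective.comp_factorThru _ _⟩
  have hε' : S.f ≫ (-(ε ≫ I₁.cocomplex.d 0 1)) = 0 := by
    rw [Preadditive.comp_neg, reassoc_of% hε]
    simp
  obtain ⟨θ, hθg⟩ : ∃ θ, S.g ≫ θ = -(ε ≫ I₁.cocomplex.d 0 1) :=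
    ⟨hS.exact.desc _ hε', hS.exact.g_desc _ hε'⟩
  have hθ : θ ≫ I₁.cocomplex.d 1 2 = 0 := by
    rw [← cancel_epi S.g, reassoc_of% hθg, Preadditive.neg_comp, Category.assoc,
      HomologicalComplex.d_comp_d, comp_zero, neg_zero, comp_zero]
  obtain ⟨ψ, hψ₀, hψ⟩ := exists_twist I₁ I₃ θ hθ
  let A : ℕ → C := fun n => I₁.cocomplex.X n ⊞ I₃.cocomplex.X n
  let d : ∀ n, A n ⟶ A (n + 1) := fun n =>
    biprod.desc (I₁.cocomplex.d n (n + 1) ≫ biprod.inl)
      (ψ n ≫ biprod.inl + I₃.cocomplex.d n (n + 1) ≫ biprod.inr)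
  have hd : ∀ n, d n ≫ d (n + 1) = 0 := fun n => by
    apply biprod.hom_ext'
    · simp [d]
    · simp only [d, biprod.inr_desc_assoc, Preadditive.add_comp, Category.assoc,
        biprod.inl_desc, biprod.inr_desc, Preadditive.comp_add, HomologicalComplex.d_comp_d_assoc,
        zero_comp, comp_zero, add_zero]
      rw [← Category.assoc, ← Category.assoc, ← Preadditive.add_comp, hψ n, zero_comp]
  let J : CochainComplex C ℕ := CochainComplex.of A d hd
  have hJd : ∀ n, J.d n (n + 1) = d n := fun n => by simp [J]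
  haveI hJi : ∀ n, Injective (J.X n) := fun n =>
    inferInstanceAs (Injective (I₁.cocomplex.X n ⊞ I₃.cocomplex.X n))
  let f : I₁.cocomplex ⟶ J :=
    { f := fun n => (biprod.inl : _ ⟶ A n)
      comm' := fun i j hij => by
        obtain rfl : i + 1 = j := hij
        rw [hJd]
        exact biprod.inl_desc _ _ }
  let g : J ⟶ I₃.cocomplex :=
    { f := fun n => (biprod.snd : A n ⟶ _)
      comm' := fun i j hij => by
        obtain rfl : i + 1 = j := hij
        rw [hJd]
        apply biprod.hom_ext' <;> simp [d, Preadditive.add_comp] }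
  have hfg : f ≫ g = 0 := by
    ext n
    exact biprod.inl_snd
  have hsp : ∀ n, ((ShortComplex.mk f g hfg).map (HomologicalComplex.eval C _ n)).ShortExact :=
    fun n => (ShortComplex.Splitting.ofHasBinaryBiproduct
      (I₁.cocomplex.X n) (I₃.cocomplex.X n)).shortExact
  have hcx := HomologicalComplex.shortExact_of_degreewise_shortExact _ hsp
  let e : S.X₂ ⟶ J.X 0 := biprod.lift ε (S.g ≫ ι₀ I₃)
  have hed : e ≫ J.d 0 1 = 0 := by
    rw [hJd 0]
    apply biprod.hom_ext
    · simp only [e, d, biprod.lift_desc, Preadditive.add_comp, Category.assoc, biprod.inl_fst,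
        biprod.inr_fst, Preadditive.comp_add, comp_zero, zero_comp, add_zero, Category.comp_id]
      rw [hψ₀, hθg]
      exact add_neg_cancel _
    · simp [e, d, biprod.lift_desc, Preadditive.add_comp]
  let ι : (CochainComplex.single₀ C).obj S.X₂ ⟶ J :=
    (CochainComplex.fromSingle₀Equiv J S.X₂).symm ⟨e, hed⟩
  have hι0 : ι.f 0 = e := by simp [ι]
  have hm : Mono e := by
    refine Preadditive.mono_of_cancel_zero _ fun {A₀} a ha => ?_
    have h₂ : a ≫ S.g = 0 := by
      have := congrArg (· ≫ (biprod.snd : A 0 ⟶ _)) ha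
      simp only [e, Category.assoc, biprod.lift_snd, zero_comp] at this
      exact zero_of_comp_mono (ι₀ I₃) ((Category.assoc _ _ _).trans this)
    obtain ⟨b, hb⟩ : ∃ b, b ≫ S.f = a := ⟨hS.exact.lift a h₂, hS.exact.lift_f a h₂⟩
    have h₁ : b ≫ ι₀ I₁ = 0 := by
      have := congrArg (· ≫ (biprod.fst : A 0 ⟶ _)) ha
      simp only [e, Category.assoc, biprod.lift_fst, zero_comp, ← hb, hε] at this
      exact this
    rw [← hb, zero_of_comp_mono (ι₀ I₁) h₁]
    exact zero_comp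
  have key : ∀ {A₀ : C} (z : A₀ ⟶ A 0), z ≫ d 0 = 0 →
      ∃ (A₁ : C) (π : A₁ ⟶ A₀) (_ : Epi π) (x : A₁ ⟶ S.X₂), π ≫ z = x ≫ e := by
    intro A₀ z hz
    have h₃ : (z ≫ biprod.snd) ≫ I₃.cocomplex.d 0 1 = 0 := by
      have := congrArg (· ≫ (biprod.snd : A 1 ⟶ _)) hz
      simp only [zero_comp, Category.assoc] at this
      rw [Category.assoc, ← this]
      congr 1
      apply biprod.hom_ext' <;> simp [d, Preadditive.add_comp]
    obtain ⟨x₃, hx₃⟩ : ∃ x₃ : A₀ ⟶ S.X₃, x₃ ≫ ι₀ I₃ = z ≫ biprod.snd :=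
      exists_lift_ι₀ I₃ _ h₃
    obtain ⟨A₁, π, hπ, x, hx⟩ := surjective_up_to_refinements_of_epi S.g x₃
    set w : A₁ ⟶ I₁.cocomplex.X 0 := π ≫ z ≫ biprod.fst - x ≫ ε with hw
    have hw0 : w ≫ I₁.cocomplex.d 0 1 = 0 := by
      have h₁ : z ≫ biprod.fst ≫ I₁.cocomplex.d 0 1 + z ≫ biprod.snd ≫ ψ 0 = 0 := by
        have := congrArg (· ≫ (biprod.fst : A 1 ⟶ _)) hz
        simp only [zero_comp, Category.assoc] at this
        rw [← Preadditive.comp_add, ← this]
        congr 1
        apply biprod.hom_ext' <;> simp [d, Preadditive.add_comp]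
      have h₁' := eq_neg_of_add_eq_zero_left h₁
      rw [hw, Preadditive.sub_comp, Category.assoc, Category.assoc, Category.assoc, h₁',
        ← reassoc_of% hx₃, hψ₀, Preadditive.comp_neg, reassoc_of% hx, hθg, Preadditive.comp_neg,
        neg_neg, sub_self]
    obtain ⟨x₁, hx₁⟩ : ∃ x₁ : A₁ ⟶ S.X₁, x₁ ≫ ι₀ I₁ = w :=
      exists_lift_ι₀ I₁ w hw0
    refine ⟨A₁, π, hπ, x + x₁ ≫ S.f, ?_⟩
    apply biprod.hom_ext
    · simp only [e, Category.assoc, biprod.lift_fst, Preadditive.add_comp, hε]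
      rw [hx₁]
      rw [hw]
      exact (add_sub_cancel _ _).symm
    · simp only [e, Category.assoc, biprod.lift_snd, Preadditive.add_comp, S.zero_assoc, zero_comp,
        comp_zero, add_zero]
      rw [← reassoc_of% hx]
      exact congrArg (π ≫ ·) hx₃.symm
  have hex : (ShortComplex.mk e (J.d 0 1) hed).Exact := by
    rw [ShortComplex.exact_iff_exact_up_to_refinements]
    intro A₀ z hz
    exact key z ((congrArg (fun t => z ≫ t) (hJd 0)).symm.trans hz)
  haveI hqi : QuasiIso ι := by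
    constructor
    intro n
    cases n with
    | zero =>
      rw [CochainComplex.quasiIsoAt₀_iff, ShortComplex.quasiIso_iff_of_zeros]
      · refine (ShortComplex.exact_and_mono_f_iff_of_iso ?_).2 ⟨hex, hm⟩
        refine ShortComplex.isoMk (Iso.refl _) (Iso.refl _) (Iso.refl _) ?_ ?_
        · simp [hι0]
          exact (Category.id_comp e).trans (Category.comp_id e).symm
        · simp
          exact (Category.id_comp _).trans (Category.comp_id _).symm
      all_goals rfl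
    | succ n =>
      rw [quasiIsoAt_iff_exactAt ι (n + 1) (CochainComplex.exactAt_succ_single_obj _ _)]
      refine hcx.exactAt_X₂ (n + 1) ?_ ?_
      · rw [← quasiIsoAt_iff_exactAt I₁.ι (n + 1) (CochainComplex.exactAt_succ_single_obj _ _)]
        infer_instance
      · rw [← quasiIsoAt_iff_exactAt I₃.ι (n + 1) (CochainComplex.exactAt_succ_single_obj _ _)]
        infer_instance
  refine ⟨{ I₁ := I₁, I₂ := { cocomplex := J, ι := ι }, I₃ := I₃, f := f, g := g, zero := hfg,
            ι_f := ?_, ι_g := ?_, shortExact := hcx }⟩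
  · refine HomologicalComplex.from_single_hom_ext ?_
    simp only [HomologicalComplex.comp_f, CochainComplex.single₀_map_f_zero]
    change ι₀ I₁ ≫ (biprod.inl : _ ⟶ A 0) = S.f ≫ ι.f 0
    rw [hι0]
    apply biprod.hom_ext <;> simp [e, hε]
  · refine HomologicalComplex.from_single_hom_ext ?_
    simp only [HomologicalComplex.comp_f, CochainComplex.single₀_map_f_zero]
    change ι.f 0 ≫ (biprod.snd : A 0 ⟶ _) = S.g ≫ ι₀ I₃
    rw [hι0]
    exact biprod.lift_snd _ _

/-- With injective resolutions, every short exact sequence has a resolution. -/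
theorem nonempty_sesRes [HasInjectiveResolutions C] {S : ShortComplex C} (hS : S.ShortExact) :
    Nonempty (RDer.SESRes S) :=
  exists_sesRes hS (injectiveResolution _) (injectiveResolution _)

end Groth.Agent.RDerLib
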