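/-
The connecting morphisms of right derived functors: independence of the resolution, naturality,
the long exact sequence.
-/
import Groth.Agent.RDerLib.Horseshoe

set_option autoImplicit false
set_option linter.style.haveILetI false

universe v u v' u'

open CategoryTheory CategoryTheory.Limits

namespace Groth.Agent.RDerLib

variable {C : Type u} [Category.{v} C] [Abelian C] [HasInjectiveResolutions C]
  {D : Type u'} [Category.{v'} D] [Abelian D] (F : C ⥤ D) [F.Additive]

omit [HasInjectiveResolutions C] in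
theorem ι_f_zero_comp_f {S : ShortComplex C} (T : RDer.SESRes S) :
    T.I₁.ι.f 0 ≫ T.f.f 0 = S.f ≫ T.I₂.ι.f 0 := by
  have := HomologicalComplex.congr_hom T.ι_f 0
  rw [HomologicalComplex.comp_f, HomologicalComplex.comp_f,
    CochainComplex.single₀_map_f_zero] at this
  exact this

omit [HasInjectiveResolutions C] in
theorem ι_f_zero_comp_g {S : ShortComplex C} (T : RDer.SESRes S) :
    T.I₂.ι.f 0 ≫ T.g.f 0 = S.g ≫ T.I₃.ι.f 0 := by
  have := HomologicalComplex.congr_hom T.ι_g 0
  rw [HomologicalComplex.comp_f, HomologicalComplex.comp_f,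
    CochainComplex.single₀_map_f_zero] at this
  exact this

/-- The connecting morphisms computed from resolutions are natural. -/
theorem delta_natural {S S' : ShortComplex C} (T : RDer.SESRes S) (T' : RDer.SESRes S')
    (φ : S ⟶ S') (n₀ n₁ : ℕ) (h : n₀ + 1 = n₁) :
    (F.rightDerived n₀).map φ.τ₃ ≫ T'.delta F n₀ n₁ h =
      T.delta F n₀ n₁ h ≫ (F.rightDerived n₁).map φ.τ₁ := by
  have ha := InjectiveResolution.desc_commutes_zero φ.τ₁ T'.I₁ T.I₁
  have hc := InjectiveResolution.desc_commutes_zero φ.τ₃ T'.I₃ T.I₃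
  obtain ⟨ψ, hψ₁, hψ₃⟩ := exists_middle T T' φ _ ha _ hc
  have n₁' := InjectiveResolution.isoRightDerivedObj_hom_naturality φ.τ₁ T.I₁ T'.I₁ _ ha F n₁
  have n₃ := InjectiveResolution.isoRightDerivedObj_hom_naturality φ.τ₃ T.I₃ T'.I₃ _ hc F n₀
  have hδ := HomologicalComplex.HomologySequence.δ_naturality
    ((F.mapHomologicalComplex (ComplexShape.up ℕ)).mapShortComplex.map ψ) (T.map_shortExact F)
    (T'.map_shortExact F) n₀ n₁ h
  rw [← cancel_mono (T'.I₁.isoRightDerivedObj F n₁).hom, Category.assoc, Category.assoc,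
    T'.delta_comp_isoRightDerivedObj_hom F n₀ n₁ h, n₁']
  erw [reassoc_of% n₃, T.delta_comp_isoRightDerivedObj_hom_assoc F n₀ n₁ h]
  rw [← hψ₁, ← hψ₃]
  exact (congrArg ((T.I₃.isoRightDerivedObj F n₀).hom ≫ ·) hδ.symm).trans (Category.assoc _ _ _).symm

theorem delta_eq {S : ShortComplex C} (T T' : RDer.SESRes S) (n₀ n₁ : ℕ) (h : n₀ + 1 = n₁) :
    T.delta F n₀ n₁ h = T'.delta F n₀ n₁ h := by
  simpa using (delta_natural F T T' (𝟙 S) n₀ n₁ h).symm

theorem map_f_comm {S : ShortComplex C} (T : RDer.SESRes S) (n : ℕ) :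
    (F.rightDerived n).map S.f ≫ (T.I₂.isoRightDerivedObj F n).hom =
      (T.I₁.isoRightDerivedObj F n).hom ≫
        HomologicalComplex.homologyMap ((F.mapHomologicalComplex _).map T.f) n :=
  InjectiveResolution.isoRightDerivedObj_hom_naturality S.f T.I₁ T.I₂ T.f (ι_f_zero_comp_f T) F n

theorem map_g_comm {S : ShortComplex C} (T : RDer.SESRes S) (n : ℕ) :
    (F.rightDerived n).map S.g ≫ (T.I₃.isoRightDerivedObj F n).hom =
      (T.I₂.isoRightDerivedObj F n).hom ≫
        HomologicalComplex.homologyMap ((F.mapHomologicalComplex _).map T.g) n :=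
  InjectiveResolution.isoRightDerivedObj_hom_naturality S.g T.I₂ T.I₃ T.g (ι_f_zero_comp_g T) F n

/-- A chosen resolution. -/
noncomputable def res {S : ShortComplex C} (hS : S.ShortExact) : RDer.SESRes S :=
  (nonempty_sesRes hS).some

/-- The long exact sequence of the right derived functors. -/
noncomputable def derivedLES : RDer.DerivedLES F where
  δ _ hS n₀ n₁ h := (res hS).delta F n₀ n₁ h
  δ_eq _ _ T n₀ n₁ h := delta_eq F _ T n₀ n₁ h
  δ_natural _ _ φ n₀ n₁ h := delta_natural F _ _ φ n₀ n₁ h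
  exact₂ S hS n := by
    refine ShortComplex.exact_of_iso ?_ (((res hS).map_shortExact F).homology_exact₂ n)
    exact (ShortComplex.isoMk ((res hS).I₁.isoRightDerivedObj F n)
      ((res hS).I₂.isoRightDerivedObj F n) ((res hS).I₃.isoRightDerivedObj F n)
      (map_f_comm F _ n).symm (map_g_comm F _ n).symm).symm
  comp_δ S hS n₀ n₁ h := by
    rw [← cancel_mono ((res hS).I₁.isoRightDerivedObj F n₁).hom, Category.assoc,
      (res hS).delta_comp_isoRightDerivedObj_hom F n₀ n₁ h, zero_comp]
    erw [reassoc_of% (map_g_comm F (res hS) n₀)]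
    refine (Category.assoc _ _ _).trans ?_
    exact (congrArg (((res hS).I₂.isoRightDerivedObj F n₀).hom ≫ ·)
      (((res hS).map_shortExact F).comp_δ n₀ n₁ h)).trans comp_zero
  exact₃ S hS n₀ n₁ h := by
    refine ShortComplex.exact_of_iso ?_ (((res hS).map_shortExact F).homology_exact₃ n₀ n₁ h)
    exact (ShortComplex.isoMk ((res hS).I₂.isoRightDerivedObj F n₀)
      ((res hS).I₃.isoRightDerivedObj F n₀) ((res hS).I₁.isoRightDerivedObj F n₁)
      (map_g_comm F _ n₀).symm
      ((res hS).delta_comp_isoRightDerivedObj_hom F n₀ n₁ h).symm).symm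
  δ_comp S hS n₀ n₁ h := by
    rw [← cancel_mono ((res hS).I₂.isoRightDerivedObj F n₁).hom, Category.assoc, map_f_comm,
      zero_comp]
    erw [(res hS).delta_comp_isoRightDerivedObj_hom_assoc F n₀ n₁ h]
    refine (Category.assoc _ _ _).trans ?_
    exact (congrArg (((res hS).I₃.isoRightDerivedObj F n₀).hom ≫ ·)
      (((res hS).map_shortExact F).δ_comp n₀ n₁ h)).trans comp_zero
  exact₁ S hS n₀ n₁ h := by
    refine ShortComplex.exact_of_iso ?_ (((res hS).map_shortExact F).homology_exact₁ n₀ n₁ h)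
    exact (ShortComplex.isoMk ((res hS).I₃.isoRightDerivedObj F n₀)
      ((res hS).I₁.isoRightDerivedObj F n₁) ((res hS).I₂.isoRightDerivedObj F n₁)
      ((res hS).delta_comp_isoRightDerivedObj_hom F n₀ n₁ h).symm
      (map_f_comm F _ n₁).symm).symm

end Groth.Agent.RDerLib
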