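/-
The zeroth right derived functor is left exact; dimension-shifting facts.
-/
import Groth.Agent.RDerLib.Delta

set_option autoImplicit false
set_option linter.style.haveILetI false

universe v u v' u'

open CategoryTheory CategoryTheory.Limits

namespace Groth.Agent.RDerLib

variable {C : Type u} [Category.{v} C] [Abelian C] [HasInjectiveResolutions C]
  {D : Type u'} [Category.{v'} D] [Abelian D] (F : C ⥤ D) [F.Additive]

theorem mono_map_zero {S : ShortComplex C} (hS : S.ShortExact) :
    Mono ((F.rightDerived 0).map S.f) := by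
  let T := res hS
  haveI : Mono ((T.cx.map (F.mapHomologicalComplex (ComplexShape.up ℕ))).f.f 0) :=
    ((T.splitting 0).map F).shortExact.mono_f
  set φ := (F.mapHomologicalComplex (ComplexShape.up ℕ)).map T.f with hφ
  haveI : Mono (φ.f 0) := this
  haveI : Mono (HomologicalComplex.cyclesMap φ 0) := by
    have : Mono (HomologicalComplex.cyclesMap φ 0 ≫ HomologicalComplex.iCycles _ 0) := by
      rw [HomologicalComplex.cyclesMap_i]; exact mono_comp _ _
    exact mono_of_mono _ (HomologicalComplex.iCycles _ 0)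
  haveI : Mono (HomologicalComplex.homologyMap φ 0) := by
    have : Mono ((CochainComplex.isoHomologyπ₀ _).hom ≫ HomologicalComplex.homologyMap φ 0) := by
      rw [show (CochainComplex.isoHomologyπ₀ _).hom ≫ HomologicalComplex.homologyMap φ 0 =
          HomologicalComplex.cyclesMap φ 0 ≫ (CochainComplex.isoHomologyπ₀ _).hom from
        HomologicalComplex.homologyπ_naturality φ 0]
      exact mono_comp _ _
    exact (MorphismProperty.cancel_left_of_respectsIso (MorphismProperty.monomorphisms D) _ _).1 this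
  have h : Mono ((F.rightDerived 0).map S.f ≫ (T.I₂.isoRightDerivedObj F 0).hom) := by
    rw [map_f_comm]; exact @mono_comp _ _ _ _ _ _ inferInstance _ ‹Mono (HomologicalComplex.homologyMap φ 0)›
  exact mono_of_mono _ (T.I₂.isoRightDerivedObj F 0).hom

theorem preservesFiniteLimits_rightDerived_zero : PreservesFiniteLimits (F.rightDerived 0) :=
  (((Functor.preservesFiniteLimits_tfae (F.rightDerived 0)).out 0 3 :
    (∀ S : ShortComplex C, S.ShortExact →
      (S.map (F.rightDerived 0)).Exact ∧ Mono ((F.rightDerived 0).map S.f)) ↔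
        PreservesFiniteLimits (F.rightDerived 0))).1 fun _ hS =>
    ⟨(derivedLES F).exact₂ _ hS 0, mono_map_zero F hS⟩

variable {F}

theorem isZero_X₂ {S : ShortComplex C} (hS : S.ShortExact) (n : ℕ)
    (h₁ : IsZero ((F.rightDerived n).obj S.X₁)) (h₃ : IsZero ((F.rightDerived n).obj S.X₃)) :
    IsZero ((F.rightDerived n).obj S.X₂) :=
  ((derivedLES F).exact₂ S hS n).isZero_X₂ (h₁.eq_of_src _ _) (h₃.eq_of_tgt _ _)

theorem isZero_X₃ {S : ShortComplex C} (hS : S.ShortExact) (n : ℕ)
    (h₁ : IsZero ((F.rightDerived (n + 1)).obj S.X₁)) (h₂ : IsZero ((F.rightDerived n).obj S.X₂)) :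
    IsZero ((F.rightDerived n).obj S.X₃) :=
  ((derivedLES F).exact₃ S hS n (n + 1) rfl).isZero_X₂ (h₂.eq_of_src _ _) (h₁.eq_of_tgt _ _)

theorem isZero_X₁_succ {S : ShortComplex C} (hS : S.ShortExact) (n : ℕ)
    (h₂ : IsZero ((F.rightDerived (n + 1)).obj S.X₂))
    (h : Epi ((F.rightDerived n).map S.g)) :
    IsZero ((F.rightDerived (n + 1)).obj S.X₁) :=
  ((derivedLES F).exact₁ S hS n (n + 1) rfl).isZero_X₂
    (zero_of_epi_comp ((F.rightDerived n).map S.g) ((derivedLES F).comp_δ S hS n (n + 1) rfl))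
    (h₂.eq_of_tgt _ _)

theorem epi_map_g {S : ShortComplex C} (hS : S.ShortExact) (n : ℕ)
    (h₁ : IsZero ((F.rightDerived (n + 1)).obj S.X₁)) : Epi ((F.rightDerived n).map S.g) :=
  ((derivedLES F).exact₃ S hS n (n + 1) rfl).epi_f (h₁.eq_of_tgt _ _)

theorem epi_map_g_iff [PreservesFiniteLimits F] {X Y : C} (f : X ⟶ Y) :
    Epi ((F.rightDerived 0).map f) ↔ Epi (F.map f) :=
  MorphismProperty.arrow_mk_iso_iff (MorphismProperty.epimorphisms D)
    (Arrow.isoMk (F.rightDerivedZeroIsoSelf.app X) (F.rightDerivedZeroIsoSelf.app Y)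
      (F.rightDerivedZeroIsoSelf.hom.naturality f).symm)

omit [HasInjectiveResolutions C] in
theorem map_shortExact [PreservesFiniteLimits F] {S : ShortComplex C} (hS : S.ShortExact)
    (h : Epi (F.map S.g)) : (S.map F).ShortExact := by
  obtain ⟨hex, hm⟩ := ((Functor.preservesFiniteLimits_tfae F).out 3 0 : PreservesFiniteLimits F ↔
    ∀ S : ShortComplex C, S.ShortExact → (S.map F).Exact ∧ Mono (F.map S.f)).1 ‹_› S hS
  exact { exact := hex, mono_f := hm, epi_g := h }

end Groth.Agent.RDerLib
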