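/-
Effaceable delta-functors are universal.
-/
import Groth.Prelude.Def_DeltaF
import Mathlib

set_option autoImplicit false
set_option linter.style.haveILetI false

universe v u v' u'

open CategoryTheory CategoryTheory.Limits DeltaF

namespace Groth.Agent.RDerLib

variable {A : Type u} [Category.{v} A] [Abelian A] {B : Type u'} [Category.{v'} B] [Abelian B]

/-- The short complex of a morphism and its cokernel. -/
noncomputable abbrev cokSeq {X Y : A} (u : X ⟶ Y) : ShortComplex A :=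
  ShortComplex.mk u (cokernel.π u) (cokernel.condition u)

theorem cokSeq_shortExact {X Y : A} (u : X ⟶ Y) [Mono u] : (cokSeq u).ShortExact where
  exact := ShortComplex.exact_cokernel u
  mono_f := inferInstance
  epi_g := inferInstance

variable (T : CohDeltaFunctor A B ℕ)

theorem epi_δ {S : ShortComplex A} (hS : S.ShortExact) {n : ℕ}
    (h : (T.F (n + 1)).map S.f = 0) : Epi (T.δ S hS n (n + 1) rfl) :=
  (T.exact₁ S hS n (n + 1) rfl).epi_f h

variable (T' : CohDeltaFunctor A B ℕ)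

theorem exists_succ (hT : T.IsEffaceable) (n : ℕ) (τ : T.F n ⟶ T'.F n) :
    ∃ σ : T.F (n + 1) ⟶ T'.F (n + 1), ∀ (S : ShortComplex A) (hS : S.ShortExact),
      T.δ S hS n (n + 1) rfl ≫ σ.app S.X₁ = τ.app S.X₃ ≫ T'.δ S hS n (n + 1) rfl := by
  choose Y u hu hTu using hT n
  have hE : ∀ X, (cokSeq (u X)).ShortExact := fun X => haveI := hu X; cokSeq_shortExact (u X)
  haveI hepi : ∀ X, Epi (T.δ _ (hE X) n (n + 1) rfl) := fun X => epi_δ T _ (hTu X)
  have hz : ∀ (S : ShortComplex A) (hS : S.ShortExact),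
      (T.F n).map S.g ≫ τ.app S.X₃ ≫ T'.δ S hS n (n + 1) rfl = 0 := fun S hS => by
    rw [τ.naturality_assoc, T'.comp_δ S hS n (n + 1) rfl, comp_zero]
  have hσ : ∀ X, ∃ s : (T.F (n + 1)).obj X ⟶ (T'.F (n + 1)).obj X,
      T.δ _ (hE X) n (n + 1) rfl ≫ s = τ.app _ ≫ T'.δ _ (hE X) n (n + 1) rfl := fun X => by
    haveI : Epi (ShortComplex.mk _ _ (T.comp_δ _ (hE X) n (n + 1) rfl)).g := hepi X
    exact ⟨(T.exact₃ _ (hE X) n (n + 1) rfl).desc _ (hz _ (hE X)),
      (T.exact₃ _ (hE X) n (n + 1) rfl).g_desc _ _⟩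
  choose σ hσ using hσ
  have key : ∀ (S : ShortComplex A) (hS : S.ShortExact) (X' : A) (f : S.X₁ ⟶ X'),
      T.δ S hS n (n + 1) rfl ≫ (T.F (n + 1)).map f ≫ σ X' =
        τ.app S.X₃ ≫ T'.δ S hS n (n + 1) rfl ≫ (T'.F (n + 1)).map f := by
    intro S hS X' f
    haveI := hS.mono_f
    haveI := hS.epi_g
    haveI := hu X'
    let j := pushout.inl S.f (f ≫ u X')
    let i := pushout.inr S.f (f ≫ u X')
    haveI : Mono i := inferInstanceAs (Mono (pushout.inr S.f (f ≫ u X')))
    let v := u X' ≫ i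
    have hv : (cokSeq v).ShortExact := cokSeq_shortExact v
    have hcond : S.f ≫ j = f ≫ v := pushout.condition.trans (Category.assoc _ _ _)
    have hj : S.f ≫ j ≫ cokernel.π v = 0 := by
      rw [reassoc_of% hcond, cokernel.condition, comp_zero]
    let φ : S ⟶ cokSeq v := ShortComplex.homMk f j (hS.exact.desc _ hj) hcond.symm
      (hS.exact.g_desc _ hj).symm
    let χ : cokSeq (u X') ⟶ cokSeq v := ShortComplex.homMk (𝟙 X') i
      (cokernel.desc _ (i ≫ cokernel.π v) (by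
        rw [← Category.assoc]
        exact cokernel.condition v))
      (by simp [v]) (cokernel.π_desc _ _ _).symm
    haveI : Epi (T.δ _ hv n (n + 1) rfl) := epi_δ T hv (by
      change (T.F (n + 1)).map (u X' ≫ i) = 0
      rw [Functor.map_comp, hTu, zero_comp])
    have e₁ := T.δ_natural hS hv φ n (n + 1) rfl
    have e₁' := T'.δ_natural hS hv φ n (n + 1) rfl
    have e₂ := T.δ_natural (hE X') hv χ n (n + 1) rfl
    have e₂' := T'.δ_natural (hE X') hv χ n (n + 1) rfl
    have hφ₁ : φ.τ₁ = f := rfl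
    have hχ₁ : χ.τ₁ = 𝟙 X' := rfl
    rw [hχ₁, CategoryTheory.Functor.map_id] at e₂ e₂'
    rw [hφ₁] at e₁ e₁'
    have main : T.δ _ hv n (n + 1) rfl ≫ σ X' = τ.app _ ≫ T'.δ _ hv n (n + 1) rfl := by
      have hD : (T.F n).map (cokSeq v).g ≫
          (T.δ _ hv n (n + 1) rfl ≫ σ X' - τ.app _ ≫ T'.δ _ hv n (n + 1) rfl) = 0 := by
        rw [Preadditive.comp_sub, hz _ hv, reassoc_of% (T.comp_δ _ hv n (n + 1) rfl), zero_comp,
          sub_zero]
      haveI : Epi (ShortComplex.mk _ _ (T.comp_δ _ hv n (n + 1) rfl)).g := ‹_›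
      obtain ⟨D, hD'⟩ : ∃ D, T.δ _ hv n (n + 1) rfl ≫ D =
          T.δ _ hv n (n + 1) rfl ≫ σ X' - τ.app _ ≫ T'.δ _ hv n (n + 1) rfl :=
        ⟨(T.exact₃ _ hv n (n + 1) rfl).desc _ hD, (T.exact₃ _ hv n (n + 1) rfl).g_desc _ _⟩
      have h0 : T.δ _ (hE X') n (n + 1) rfl ≫ D = 0 := by
        rw [show T.δ _ (hE X') n (n + 1) rfl = (T.F n).map χ.τ₃ ≫ T.δ _ hv n (n + 1) rfl from
          (e₂.trans (Category.comp_id _)).symm, Category.assoc, hD', Preadditive.comp_sub,
          τ.naturality_assoc, reassoc_of% e₂, e₂', Category.comp_id, hσ, sub_self]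
      have hD0 : D = 0 := by
        haveI := hepi X'
        exact zero_of_epi_comp _ h0
      rw [hD0, comp_zero] at hD'
      exact sub_eq_zero.1 hD'.symm
    rw [← reassoc_of% e₁, main, τ.naturality_assoc, e₁']
  refine ⟨{ app := σ, naturality := fun X X' f => ?_ }, fun S hS => ?_⟩
  · haveI := hepi X
    rw [← cancel_epi (T.δ _ (hE X) n (n + 1) rfl)]
    exact (key _ (hE X) X' f).trans ((reassoc_of% (hσ X)) _).symm
  · have := key S hS S.X₁ (𝟙 _)
    rw [CategoryTheory.Functor.map_id, Category.id_comp, CategoryTheory.Functor.map_id,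
      Category.comp_id] at this
    exact this

theorem isUniversal_of_isEffaceable (hT : T.IsEffaceable) : T.IsUniversal := by
  intro T' t
  choose nx hnx using exists_succ T T' hT
  let τ : ∀ n, T.F n ⟶ T'.F n := fun n => Nat.rec t (fun k p => nx k p) n
  refine ⟨⟨τ, ?_⟩, rfl, ?_⟩
  · rintro S hS n₀ n₁ rfl
    exact hnx n₀ (τ n₀) S hS
  · intro σ hσ
    refine CohDeltaFunctor.hom_ext fun n => ?_
    induction n with
    | zero => exact hσ
    | succ k ih =>
      ext X
      obtain ⟨Y, u, hu, hTu⟩ := hT k X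
      haveI := epi_δ T (cokSeq_shortExact u) hTu
      rw [← cancel_epi (T.δ _ (cokSeq_shortExact u) k (k + 1) rfl)]
      refine (σ.comm _ (cokSeq_shortExact u) k (k + 1) rfl).trans ?_
      rw [ih]
      exact (hnx k (τ k) _ (cokSeq_shortExact u)).symm

variable {T T'}

theorem mono_succ (hT : T.IsEffaceable) (φ : T ⟶ T') (k : ℕ) [IsIso (φ.app k)] :
    Mono (φ.app (k + 1)) := by
  haveI : ∀ X, Mono ((φ.app (k + 1)).app X) := fun X => by
    refine Preadditive.mono_of_cancel_zero _ fun {W} a ha => ?_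
    obtain ⟨Y, u, hu, hTu⟩ := hT k X
    have hS := cokSeq_shortExact u
    haveI := epi_δ T hS hTu
    obtain ⟨W₁, π₁, hπ₁, c, hc⟩ :=
      surjective_up_to_refinements_of_epi (T.δ _ hS k (k + 1) rfl) a
    have h1 : (c ≫ (φ.app k).app _) ≫ T'.δ _ hS k (k + 1) rfl = 0 := by
      rw [Category.assoc, ← φ.comm _ hS k (k + 1) rfl, ← reassoc_of% hc, ha, comp_zero]
    obtain ⟨W₂, π₂, hπ₂, y, hy⟩ :=
      (T'.exact₃ _ hS k (k + 1) rfl).exact_up_to_refinements _ h1
    have h2 : (π₂ ≫ c - (y ≫ inv ((φ.app k).app _)) ≫ (T.F k).map (cokSeq u).g) ≫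
        (φ.app k).app _ = 0 := by
      rw [Preadditive.sub_comp, Category.assoc, Category.assoc, Category.assoc,
        (φ.app k).naturality, IsIso.inv_hom_id_assoc, sub_eq_zero]
      exact hy
    have h3 := sub_eq_zero.1 (zero_of_comp_mono _ h2)
    have h4 : π₂ ≫ π₁ ≫ a = 0 := by
      rw [hc, ← Category.assoc, h3, Category.assoc, T.comp_δ, comp_zero]
    exact zero_of_epi_comp π₁ (zero_of_epi_comp π₂ h4)
  exact NatTrans.mono_of_mono_app _

theorem epi_succ (φ : T ⟶ T') (k : ℕ) [Epi (φ.app k)]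
    (h : ∀ X : A, ∃ (Y : A) (u : X ⟶ Y), Mono u ∧ (T'.F (k + 1)).map u = 0) :
    Epi (φ.app (k + 1)) := by
  haveI : ∀ X, Epi ((φ.app (k + 1)).app X) := fun X => by
    obtain ⟨Y, u, hu, hTu⟩ := h X
    have hS := cokSeq_shortExact u
    haveI := epi_δ T' hS hTu
    have : Epi (T.δ _ hS k (k + 1) rfl ≫ (φ.app (k + 1)).app (cokSeq u).X₁) := by
      rw [φ.comm _ hS k (k + 1) rfl]
      exact epi_comp _ _
    exact epi_of_epi (T.δ _ hS k (k + 1) rfl) _
  exact NatTrans.epi_of_epi_app _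

end Groth.Agent.RDerLib
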